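import Cfsg.Agent.H937.PwO.Plane

/-!
# S2465: `aniso5` (the statement asked for by helper126)
-/

set_option autoImplicit false

namespace Cfsg.Agent.H937.PwO

open QuadraticMap Module Cfsg.Agent.LieClassical.OrthCore Cfsg.Agent.H140.OreO Cfsg.Agent.H126.PwO

theorem aniso5 {F V : Type*} [Field F] [Finite F] [AddCommGroup V] [Module F V] [FiniteDimensional F V]
    (hF : Nat.card F = 4 ∨ Nat.card F = 9) {Q : QuadraticForm F V} (_hQ : Nondeg Q)
    (h2 : finrank F V = 2) (ha : ∀ v, Q v = 0 → v = 0) : ∃ x ∈ O Q, Fv x :=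
  exists_fv h2 ha (by rcases hF with h | h <;> rw [h] <;> norm_num) (by rcases hF with h | h <;> rw [h] <;> norm_num)

end Cfsg.Agent.H937.PwO
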